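/-
Janko's group J₂ as a permutation group of degree 100 (helper16).
-/
import Cfsg.Agent.Lib.ToddCox.J2O.Main
import Cfsg.Agent.Lib.ToddCox.PermPkg
import Cfsg.Prelude.Def_Sporadic

set_option autoImplicit false
set_option maxRecDepth 100000

namespace Cfsg.Agent.Lib.ToddCox.J2Perm

open Cfsg.Agent.Lib.ToddCox.OPJ2

abbrev P : Type := Equiv.Perm (Fin 100)
abbrev Q : Type := PresentedGroup (Spor.coxRelators edges ∪ {r | r ∈ extra})

def fa : Fin 100 → Fin 100 := ![1, 0, 5, 6, 9, 2, 3, 12, 13, 4, 17, 18, 7, 8, 21, 22, 16, 10, 11, 28, 29, 14, 15, 32, 24, 34, 26, 27, 19, 20, 41, 42, 23, 48, 25, 35, 47, 37, 50, 39, 40, 30, 31, 57, 60, 52, 63, 36, 33, 66, 38, 51, 45, 65, 54, 55, 56, 43, 74, 73, 44, 78, 70, 46, 81, 53, 49, 84, 85, 69, 62, 71, 72, 59, 58, 87, 88, 77, 61, 91, 86, 64, 93, 94, 67, 68, 80, 75, 76, 89, 90, 79, 96, 82, 83, 98, 92, 97, 95, 99]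
theorem ha : Function.Involutive fa := by unfold Function.Involutive; decide +kernel
def fb : Fin 100 → Fin 100 := ![0, 4, 2, 3, 1, 10, 11, 7, 8, 16, 5, 6, 19, 20, 14, 24, 9, 26, 27, 12, 13, 30, 33, 35, 15, 37, 17, 18, 39, 40, 21, 44, 46, 22, 49, 23, 51, 25, 55, 28, 29, 56, 42, 58, 31, 61, 32, 64, 48, 34, 68, 36, 52, 69, 67, 38, 41, 57, 43, 75, 77, 45, 80, 63, 47, 83, 66, 54, 50, 53, 70, 86, 87, 73, 90, 59, 84, 60, 89, 82, 62, 81, 79, 65, 76, 85, 71, 72, 88, 78, 74, 91, 95, 97, 94, 92, 96, 93, 99, 98]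
theorem hb : Function.Involutive fb := by unfold Function.Involutive; decide +kernel
def fc : Fin 100 → Fin 100 := ![0, 1, 4, 3, 2, 9, 6, 11, 15, 5, 17, 7, 18, 22, 23, 8, 26, 10, 12, 28, 31, 32, 13, 14, 24, 34, 16, 39, 19, 42, 43, 20, 21, 44, 25, 35, 52, 54, 50, 27, 40, 57, 29, 30, 33, 47, 58, 45, 60, 67, 38, 51, 36, 70, 37, 72, 56, 41, 46, 59, 48, 79, 65, 74, 82, 62, 84, 49, 87, 69, 53, 71, 55, 73, 63, 85, 76, 77, 91, 61, 92, 93, 64, 95, 66, 75, 96, 68, 88, 89, 90, 78, 80, 81, 98, 83, 86, 97, 94, 99]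
theorem hc : Function.Involutive fc := by unfold Function.Involutive; decide +kernel
def fd : Fin 100 → Fin 100 := ![2, 5, 0, 8, 10, 1, 13, 14, 3, 17, 4, 20, 21, 6, 7, 25, 26, 9, 29, 30, 11, 12, 34, 36, 37, 15, 16, 40, 41, 18, 19, 45, 47, 49, 22, 51, 23, 24, 53, 56, 27, 28, 52, 59, 61, 31, 64, 32, 66, 33, 65, 35, 42, 38, 71, 69, 39, 73, 75, 43, 78, 44, 76, 81, 46, 50, 48, 86, 83, 55, 88, 54, 90, 57, 87, 58, 62, 89, 60, 92, 84, 63, 95, 68, 80, 94, 67, 74, 70, 77, 72, 96, 79, 98, 85, 82, 91, 99, 93, 97]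
theorem hd : Function.Involutive fd := by unfold Function.Involutive; decide +kernel
def fe : Fin 100 → Fin 100 := ![3, 6, 7, 0, 11, 12, 1, 2, 14, 18, 19, 4, 5, 21, 8, 23, 27, 28, 9, 10, 30, 13, 32, 15, 35, 38, 39, 16, 17, 41, 20, 43, 22, 46, 50, 24, 53, 55, 25, 26, 56, 29, 57, 31, 58, 62, 33, 65, 63, 68, 34, 69, 70, 36, 72, 37, 40, 42, 44, 76, 74, 80, 45, 48, 83, 47, 85, 87, 49, 51, 52, 89, 54, 88, 60, 84, 59, 90, 86, 92, 61, 94, 95, 64, 75, 66, 78, 67, 73, 71, 77, 96, 79, 98, 81, 82, 91, 99, 93, 97]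
theorem he : Function.Involutive fe := by unfold Function.Involutive; decide +kernel

def T : Gen → P
  | .a => ha.toPerm
  | .b => hb.toPerm
  | .c => hc.toPerm
  | .d => hd.toPerm
  | .e => he.toPerm

theorem T_rel : ∀ r ∈ coxList edges ++ extra, FreeGroup.lift T r = 1 := by decide +kernel

noncomputable def φ : Q →* P := presMap edges extra T T_rel

theorem φ_ne : φ (PresentedGroup.of .a) ≠ 1 := by
  show presMap edges extra T T_rel (PresentedGroup.of .a) ≠ 1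
  rw [presMap_of]
  decide +kernel

theorem main : ∃ G : Subgroup (Equiv.Perm (Fin 100)), Cfsg.IsJ2 G := by
  obtain ⟨h1, h2⟩ := simple_range J2O.main.1 φ φ_ne
  exact ⟨φ.range, h1, h2.trans J2O.main.2⟩

end Cfsg.Agent.Lib.ToddCox.J2Perm
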